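import Cfsg.Agent.H797.MaxParity
import Cfsg.Agent.H467.MaxClassUniform

/-!
# The chain of a subgroup `S ≤ Ω` of maximal class, as subgroups of `Ω`
-/

set_option autoImplicit false
set_option linter.unusedSectionVars false

namespace Cfsg.Agent.H797.MaxOmega

open Subgroup Cfsg.Agent.H467.MaxClass Cfsg.Agent.H797.MaxParity
open scoped commutatorElement

universe u

variable {Ω : Type u} [Group Ω] {S : Subgroup Ω} {p n : ℕ} {W : ℕ → Subgroup S}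

/-- the chain in `Ω` -/
def V (W : ℕ → Subgroup S) (i : ℕ) : Subgroup Ω := (W i).map S.subtype

theorem mem_V {i : ℕ} {x : Ω} : x ∈ V W i ↔ ∃ hx : x ∈ S, (⟨x, hx⟩ : S) ∈ W i := by
  constructor
  · rintro ⟨y, hy, rfl⟩
    exact ⟨y.2, hy⟩
  · rintro ⟨hx, h⟩
    exact ⟨_, h, rfl⟩

theorem V_le (i : ℕ) : V W i ≤ S := by
  rintro _ ⟨y, -, rfl⟩
  exact y.2

theorem V_zero (h : MC S p n W) : V W 0 = S := by
  rw [V, h.zero, ← MonoidHom.range_eq_map, Subgroup.range_subtype]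

theorem V_bot (h : MC S p n W) {i : ℕ} (hi : n ≤ i) : V W i = ⊥ := by
  rw [V, h.bot_of_le hi, Subgroup.map_bot]

theorem V_anti (h : MC S p n W) {i j : ℕ} (hij : i ≤ j) : V W j ≤ V W i :=
  Subgroup.map_mono (h.antitone hij)

theorem V_card (h : MC S p n W) (i : ℕ) (hi : i ≤ n) : Nat.card (V W (n - i)) = p ^ i := by
  rw [← h.card_W i hi]
  exact (Nat.card_congr ((W (n - i)).equivMapOfInjective _ S.subtype_injective).toEquiv).symm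

theorem V_comm (h : MC S p n W) [hp : Fact p.Prime] {i j : ℕ} {a b : Ω} (ha : a ∈ V W i)
    (hb : b ∈ V W j) : ⁅a, b⁆ ∈ V W (i + j) := by
  obtain ⟨ha, ha'⟩ := mem_V.1 ha
  obtain ⟨hb, hb'⟩ := mem_V.1 hb
  exact ⟨_, h.comm_comm_mem ha' hb', rfl⟩

theorem V_comm_S (h : MC S p n W) {i : ℕ} {a s : Ω} (ha : a ∈ V W i)
    (hs : s ∈ S) : ⁅a, s⁆ ∈ V W (i + 1) := by
  obtain ⟨ha, ha'⟩ := mem_V.1 ha
  exact ⟨_, h.comm_mem (x := ⟨s, hs⟩) ha', rfl⟩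

theorem V_comm_S' (h : MC S p n W) {i : ℕ} {a s : Ω} (ha : a ∈ V W i)
    (hs : s ∈ S) : ⁅s, a⁆ ∈ V W (i + 1) := by
  rw [← commutatorElement_inv]
  exact Subgroup.inv_mem _ (V_comm_S h ha hs)

theorem V_conj (h : MC S p n W) {i : ℕ} {a s : Ω} (ha : a ∈ V W i) (hs : s ∈ S) :
    s * a * s⁻¹ ∈ V W i := by
  obtain ⟨ha, ha'⟩ := mem_V.1 ha
  exact ⟨_, h.conj_mem ha' ⟨s, hs⟩, rfl⟩

theorem V_self (h : MC S p n W) [hp : Fact p.Prime] {i : ℕ} {a b : Ω} (ha : a ∈ V W i)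
    (hb : b ∈ V W i) : ⁅a, b⁆ ∈ V W (2 * i + 1) := by
  obtain ⟨ha, ha'⟩ := mem_V.1 ha
  obtain ⟨hb, hb'⟩ := mem_V.1 hb
  exact ⟨_, h.comm_self ha' hb', rfl⟩

theorem V_black [Finite S] (h : MC S p n W) [hp : Fact p.Prime] (hp3 : 3 ≤ p) {i : ℕ} (h2 : 2 ≤ i)
    (hi : i + 3 ≤ n) {a b : Ω} (ha : a ∈ V W i) (hb : b ∈ V W 1) : ⁅a, b⁆ ∈ V W (i + 2) := by
  obtain ⟨ha, ha'⟩ := mem_V.1 ha
  obtain ⟨hb, hb'⟩ := mem_V.1 hb
  exact ⟨_, h.blackburn hp3 i h2 hi (commutator_mem_commutator ha' hb'), rfl⟩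

theorem V_deg [Finite S] (h : MC S p n W) [hp : Fact p.Prime] (hp3 : 3 ≤ p) {i j : ℕ} (h1 : 1 ≤ i)
    (hj : 1 ≤ j) (hi : i + j + 2 ≤ n) {a b : Ω} (ha : a ∈ V W i) (hb : b ∈ V W j) :
    ⁅a, b⁆ ∈ V W (i + j + 1) := by
  obtain ⟨ha, ha'⟩ := mem_V.1 ha
  obtain ⟨hb, hb'⟩ := mem_V.1 hb
  exact ⟨_, h.deg (k := n - 2) (fun j h2 hj => h.blackburn hp3 j h2 (by omega)) j i h1 hj (by omega)
    (commutator_mem_commutator ha' hb'), rfl⟩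

theorem V_of_K [Finite S] (h : MC S p n W) [hp : Fact p.Prime] (hp3 : 3 ≤ p) {i : ℕ} (h1 : 1 ≤ i)
    (hi : i + 3 ≤ n) {x : Ω} (hx : x ∈ S) (hK : ∀ a ∈ V W i, ⁅a, x⁆ ∈ V W (i + 2)) : x ∈ V W 1 := by
  refine mem_V.2 ⟨hx, ?_⟩
  rw [← Ksub_eq h hp3 h1 hi]
  intro w hw
  obtain ⟨h2, h3⟩ := mem_V.1 (hK w ⟨w, hw, rfl⟩)
  exact h3

/-- the last two-step centralizer, in `Ω` -/
def C (h : MC S p n W) : Subgroup Ω := (h.Ksub (n - 2)).map S.subtype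

theorem mem_C (h : MC S p n W) {x : Ω} : x ∈ C h ↔ x ∈ S ∧ ∀ a ∈ V W (n - 2), a * x = x * a := by
  constructor
  · rintro ⟨y, hy, rfl⟩
    refine ⟨y.2, ?_⟩
    rintro _ ⟨w, hw, rfl⟩
    exact congrArg Subtype.val ((mem_Ksub_last h).1 hy w hw)
  · rintro ⟨hx, h1⟩
    refine ⟨⟨x, hx⟩, (mem_Ksub_last h).2 ?_, rfl⟩
    intro w hw
    exact Subtype.ext (h1 w ⟨w, hw, rfl⟩)

theorem V_center (h : MC S p n W) {z : Ω} (hz : z ∈ V W (n - 1)) {x : Ω} (hx : x ∈ S) :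
    z * x = x * z := by
  obtain ⟨hz, hz'⟩ := mem_V.1 hz
  exact congrArg Subtype.val (h.center_le hz' ⟨x, hx⟩).eq

/-- abelian subgroups of order at least `p ^ 3` lie in `V 1` or in `C`. -/
theorem le_or_le [Finite S] (h : MC S p n W) [hp : Fact p.Prime] (hp3 : 3 ≤ p) {E : Subgroup Ω}
    (hE : E ≤ S) (hab : ∀ x ∈ E, ∀ y ∈ E, x * y = y * x) (hc : p ^ 2 < Nat.card E) :
    E ≤ V W 1 ∨ E ≤ C h := by
  have hor : ∀ x ∈ E, x ∈ V W 1 ∨ x ∈ C h := by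
    intro x hx
    by_contra hcon
    push Not at hcon
    obtain ⟨h1, h2⟩ := hcon
    have hx1 : (⟨x, hE hx⟩ : S) ∉ W 1 := fun hh => h1 ⟨_, hh, rfl⟩
    have hx2 : (⟨x, hE hx⟩ : S) ∉ h.Ksub (n - 2) := fun hh => h2 ⟨_, hh, rfl⟩
    have h3 := h.card_centralizer_of_notMem hx1
      (fun i hi hi' => h.notMem_Ksub hp3 hx1 hx2 i hi hi')
    have h4 : E.subgroupOf S ≤ centralizer ({⟨x, hE hx⟩} : Set S) := by
      intro y hy
      rw [Subgroup.mem_centralizer_singleton_iff]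
      exact Subtype.ext (hab y hy x hx)
    have h5 := Subgroup.card_le_of_le h4
    rw [h3, Nat.card_congr (Subgroup.subgroupOfEquivOfLe hE).toEquiv] at h5
    omega
  by_contra hcon
  push Not at hcon
  obtain ⟨h1, h2⟩ := hcon
  obtain ⟨a, haE, ha⟩ := SetLike.not_le_iff_exists.1 h1
  obtain ⟨b, hbE, hb⟩ := SetLike.not_le_iff_exists.1 h2
  have ha2 := (hor a haE).resolve_left ha
  have hb1 := (hor b hbE).resolve_right hb
  rcases hor (a * b) (E.mul_mem haE hbE) with h3 | h3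
  · exact ha ((Subgroup.mul_mem_cancel_right _ hb1).1 h3)
  · exact hb ((Subgroup.mul_mem_cancel_left _ ha2).1 h3)

theorem C_normal_or (h : MC S p n W) [hp : Fact p.Prime] [Finite S] :
    ∀ x ∈ V W 2, x ∈ C h := by
  rintro _ ⟨x, hx, rfl⟩
  exact ⟨x, h.W2_le_Ksub _ hx, rfl⟩

/-- `V 1 ∩ C = V 2` in the exceptional case -/
theorem inf_eq [Finite S] (h : MC S p n W) [hp : Fact p.Prime] (hne : ¬ V W 1 ≤ C h) {x : Ω}
    (h1 : x ∈ V W 1) (h2 : x ∈ C h) : x ∈ V W 2 := by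
  have h4 := h.four_le
  by_contra hcon
  apply hne
  obtain ⟨hxS, hx1⟩ := mem_V.1 h1
  have hx2 : (⟨x, hxS⟩ : S) ∉ W 2 := fun hh => hcon (mem_V.2 ⟨hxS, hh⟩)
  have hxC : (⟨x, hxS⟩ : S) ∈ h.Ksub (n - 2) := by
    obtain ⟨y, hy, hyx⟩ := h2
    have : y = ⟨x, hxS⟩ := Subtype.ext hyx
    rwa [← this]
  rintro _ ⟨y, hy, rfl⟩
  obtain ⟨k, hk⟩ := h.exists_zpow (i := 1) (by omega) hx1 hx2 hy
  have e : y = (⟨x, hxS⟩ : S) ^ k * (((⟨x, hxS⟩ : S) ^ k)⁻¹ * y) := by group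
  refine ⟨y, ?_, rfl⟩
  show y ∈ h.Ksub (n - 2)
  rw [e]
  exact (h.Ksub (n - 2)).mul_mem ((h.Ksub (n - 2)).zpow_mem hxC k) (h.W2_le_Ksub _ hk)

/-- `[c, S] = V (n - 1)` for `c ∈ V (n - 2) - V (n - 1)` -/
theorem exists_conj_eq [Finite S] (h : MC S p n W) [hp : Fact p.Prime] {c z : Ω}
    (hc : c ∈ V W (n - 2)) (hc' : c ∉ V W (n - 1)) (hz : z ∈ V W (n - 1)) :
    ∃ s ∈ S, s * c * s⁻¹ = c * z := by
  have h4 := h.four_le
  obtain ⟨hcS, hcW⟩ := mem_V.1 hc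
  obtain ⟨hzS, hzW⟩ := mem_V.1 hz
  have hcW' : (⟨c, hcS⟩ : S) ∉ W (n - 1) := fun hh => hc' (mem_V.2 ⟨hcS, hh⟩)
  have hcen : ∀ y z : S, Commute ⁅(⟨c, hcS⟩ : S), y⁆ z := by
    intro y z
    have h1 : ⁅(⟨c, hcS⟩ : S), y⁆ ∈ W (n - 1) := by
      have := h.comm_mem (x := y) hcW
      rwa [show n - 2 + 1 = n - 1 by omega] at this
    exact h.center_le h1 z
  let f : S →* S := MonoidHom.mk' (fun y => ⁅(⟨c, hcS⟩ : S), y⁆) (by
    intro y z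
    have e : ⁅(⟨c, hcS⟩ : S), y * z⁆ = ⁅(⟨c, hcS⟩ : S), y⁆ * (y * ⁅(⟨c, hcS⟩ : S), z⁆ * y⁻¹) := by
      simp only [commutatorElement_def]; group
    rw [e, ← (hcen z y).eq, mul_inv_cancel_right])
  have hr : f.range ≤ W (n - 1) := by
    rintro _ ⟨y, rfl⟩
    have := h.comm_mem (x := y) hcW
    rwa [show n - 2 + 1 = n - 1 by omega] at this
  have hcard : Nat.card (W (n - 1)) = p := by
    have := h.card_W 1 (by omega)
    rwa [pow_one] at this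
  have hne : f.range ≠ ⊥ := by
    intro hbot
    have hall : ∀ y, y ∈ h.Ksub (n - 2) := by
      intro y
      have h1 : f y ∈ f.range := ⟨y, rfl⟩
      rw [hbot, mem_bot] at h1
      have h2 : ⁅(⟨c, hcS⟩ : S), y⁆ = 1 := h1
      refine (h.mem_K_iff (i := n - 2) (by omega) hcW ?_ y).2 ?_
      · rwa [show n - 2 + 1 = n - 1 by omega]
      · rw [h2]; exact one_mem _
    exact h.Ksub_ne_top' (i := n - 2) (by omega) (by omega) (eq_top_iff.2 fun y _ => hall y)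
  have heq : f.range = W (n - 1) := by
    apply Subgroup.eq_of_le_of_card_ge hr
    rw [hcard]
    have h5 := Subgroup.card_dvd_of_le hr
    rw [hcard] at h5
    rcases (Nat.dvd_prime hp.out).1 h5 with h6 | h6
    · exact absurd (Subgroup.card_eq_one.1 h6) hne
    · exact h6.ge
  have h6 : ((⟨z, hzS⟩ : S))⁻¹ ∈ f.range := by
    rw [heq]
    exact inv_mem hzW
  obtain ⟨y, hy⟩ := h6
  refine ⟨y, y.2, ?_⟩
  have h7 : ⁅(⟨c, hcS⟩ : S), y⁆ = (⟨z, hzS⟩ : S)⁻¹ := hy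
  have h8 : c * (y : Ω) * c⁻¹ * (y : Ω)⁻¹ = z⁻¹ := congrArg Subtype.val h7
  have h9 : z * (c : Ω) = c * z := V_center h hz hcS
  calc (y : Ω) * c * (y : Ω)⁻¹ = (c * (y : Ω) * c⁻¹ * (y : Ω)⁻¹)⁻¹ * c := by group
    _ = z * c := by rw [h8, inv_inv]
    _ = c * z := h9

end Cfsg.Agent.H797.MaxOmega
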