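import Cfsg.Agent.H802.FusNorm
import Cfsg.Agent.H759.FusNormal

/-!
# Extending automorphisms preserving a chain stabilized by `S`
-/

set_option autoImplicit false
set_option linter.unusedSectionVars false

namespace Cfsg.Agent.H797.StabExt

open Cfsg Cfsg.FusionSystem Cfsg.Agent.H802

/-- `α` preserves the chain `c 0, …, c m` and acts trivially on its factors. -/
def Stab {R : Type*} [Group R] (c : ℕ → Subgroup R) (m : ℕ) (α : MulAut R) : Prop :=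
  (∀ i ≤ m, ∀ x, α x ∈ c i ↔ x ∈ c i) ∧ ∀ i < m, ∀ x ∈ c i, x⁻¹ * α x ∈ c (i + 1)

/-- The stability group. -/
def stabGroup {R : Type*} [Group R] (c : ℕ → Subgroup R) (m : ℕ) : Subgroup (MulAut R) where
  carrier := {α | Stab c m α}
  one_mem' := by
    refine ⟨fun i _ x => Iff.rfl, fun i _ x _ => ?_⟩
    show x⁻¹ * x ∈ c (i + 1)
    rw [inv_mul_cancel]
    exact Subgroup.one_mem _
  mul_mem' := by
    rintro a b ⟨ha1, ha2⟩ ⟨hb1, hb2⟩
    refine ⟨fun i hi x => ?_, fun i hi x hx => ?_⟩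
    · rw [MulAut.mul_apply, ha1 i hi, hb1 i hi]
    · have e : x⁻¹ * (a * b) x = (x⁻¹ * b x) * ((b x)⁻¹ * a (b x)) := by
        rw [MulAut.mul_apply]; group
      rw [e]
      exact Subgroup.mul_mem _ (hb2 i hi x hx) (ha2 i hi _ ((hb1 i hi.le x).2 hx))
  inv_mem' := by
    rintro a ⟨ha1, ha2⟩
    have h1 : ∀ i ≤ m, ∀ x, a⁻¹ x ∈ c i ↔ x ∈ c i := by
      intro i hi x
      rw [← ha1 i hi, MulAut.apply_inv_self]
    refine ⟨h1, fun i hi x hx => ?_⟩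
    have e := ha2 i hi (a⁻¹ x) ((h1 i hi.le x).2 hx)
    rw [MulAut.apply_inv_self] at e
    have e3 := (c (i + 1)).inv_mem e
    have e4 : ((a⁻¹ x)⁻¹ * x)⁻¹ = x⁻¹ * a⁻¹ x := by group
    rwa [e4] at e3

theorem isPGroup_stabGroup {R : Type*} [Group R] [Finite R] {p : ℕ} [Fact p.Prime]
    (hR : IsPGroup p R) (c : ℕ → Subgroup R) (m : ℕ) (h0 : c 0 = ⊤) (hm : c m = ⊥) :
    IsPGroup p (stabGroup c m) := by
  rintro ⟨α, hα1, hα2⟩
  obtain ⟨k, hk⟩ := Cfsg.Agent.H759.exists_pow_eq_one_of_chain hR α m c h0 hm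
    (fun i hi x hx => (hα1 i hi x).2 hx) hα2
  exact ⟨k, Subtype.ext hk⟩

variable {Ω : Type*} [Group Ω] {S : Subgroup Ω}

theorem exists_ext {p : ℕ} [hp : Fact p.Prime] [Finite S] (hS : IsPGroup p S)
    {F : FusionSystem S} (hF : F.IsSaturated p) {Q : Subgroup Ω} (hQ : F.IsFullyNormalized Q)
    (c : ℕ → Subgroup Q) (m : ℕ) (h0 : c 0 = ⊤) (hm : c m = ⊥)
    (hc : ∀ α ∈ autInducedBy S Q, Stab c m α) {τ : MulAut Q} (hτ : τ ∈ F.autGroup Q)
    (hτc : ∀ i ≤ m, ∀ x, τ x ∈ c i ↔ x ∈ c i) :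
    ∃ ψ ∈ F.Hom (normalizerIn S Q), ∀ (x : Ω) (hx : x ∈ Q) (hx' : x ∈ normalizerIn S Q),
      ψ ⟨x, hx'⟩ = (τ ⟨x, hx⟩ : Q) := by
  have hQS : Q ≤ S := hQ.1
  have hfQ : Finite Q := finite_of_le hQS
  have hQp : IsPGroup p Q := hS.to_le hQS
  obtain ⟨-, R₀, hR₀⟩ := isFullyAutomized_of_isFullyNormalized hS hF hQ
  have hrec := isReceptive_of_isFullyNormalized hS hF hQ
  have hΓ : IsPGroup p ((stabGroup c m).subgroupOf (F.autGroup Q)) :=
    (isPGroup_stabGroup hQp c m h0 hm).comap_subtype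
  have hle : (R₀ : Subgroup (F.autGroup Q)) ≤ (stabGroup c m).subgroupOf (F.autGroup Q) := by
    rw [hR₀]
    intro α hα
    exact hc α hα
  have heq : (stabGroup c m).subgroupOf (F.autGroup Q) = R₀ := R₀.3 hΓ hle
  have hτinv : ∀ i ≤ m, ∀ x, τ⁻¹ x ∈ c i ↔ x ∈ c i := by
    intro i hi x
    rw [← hτc i hi, MulAut.apply_inv_self]
  -- τ normalizes Aut_S(Q)
  have hnorm : ∀ α ∈ autInducedBy S Q, τ * α * τ⁻¹ ∈ autInducedBy S Q := by
    intro α hα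
    obtain ⟨h1, h2⟩ := hc α hα
    have hst : Stab c m (τ * α * τ⁻¹) := by
      refine ⟨fun i hi x => ?_, fun i hi x hx => ?_⟩
      · rw [MulAut.mul_apply, MulAut.mul_apply, hτc i hi, h1 i hi, hτinv i hi]
      · have h3 := h2 i hi (τ⁻¹ x) ((hτinv i hi.le x).2 hx)
        rw [← hτc (i + 1) (by omega), map_mul, map_inv, MulAut.apply_inv_self] at h3
        exact h3
    have hmem : (⟨τ * α * τ⁻¹, (F.autGroup Q).mul_mem ((F.autGroup Q).mul_mem hτ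
        (autInducedBy_le_autGroup F hQS hα)) ((F.autGroup Q).inv_mem hτ)⟩ : F.autGroup Q) ∈
        (stabGroup c m).subgroupOf (F.autGroup Q) := hst
    rw [heq, hR₀] at hmem
    exact hmem
  have hφ := (mem_autGroup_iff F hQS τ).1 hτ
  have hφr : (Q.subtype.comp τ.toMonoidHom).range = Q := by
    apply range_eq_of_mapsTo hφ
    intro x
    exact (τ x).2
  obtain ⟨ψ', hψ', hψ'e⟩ := hrec.2 Q _ hφ hφr
  have hext : normalizerIn S Q ≤ extender S Q (Q.subtype.comp τ.toMonoidHom) := by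
    intro x hx
    obtain ⟨α, hα⟩ := exists_conjAut hx.2
    have h1 := hnorm α ((mem_autInducedBy_iff S Q α).2 ⟨x, hx.1, hα⟩)
    obtain ⟨h, hhS, hh⟩ := (mem_autInducedBy_iff S Q _).1 h1
    rw [mem_extender_iff]
    refine ⟨hx.1, hx.2, h, hhS, fun v hv => ?_⟩
    have e2 : (⟨x * (v : Ω) * x⁻¹, hv⟩ : Q) = α v := Subtype.ext (hα v).symm
    show ((τ ⟨x * (v : Ω) * x⁻¹, hv⟩ : Q) : Ω) = h * (τ v : Ω) * h⁻¹
    rw [e2, ← hh (τ v), MulAut.mul_apply, MulAut.mul_apply, MulAut.inv_apply_self]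
  refine ⟨ψ'.comp (Subgroup.inclusion hext), restrict_mem hψ' hext, ?_⟩
  intro x hx hx'
  exact hψ'e x hx (hext hx')

end Cfsg.Agent.H797.StabExt
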