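import Mathlib

/-!
# Transvections and strongly embedded subgroups in groups acting on a vector space over `𝔽_p`
-/

set_option autoImplicit false
set_option linter.unusedSectionVars false
set_option linter.unusedSimpArgs false

namespace Cfsg.Agent.H797.StrongTv

variable {p : ℕ} [hp : Fact p.Prime] {V : Type*} [AddCommGroup V] [Module (ZMod p) V]
  {A : Type*} [Group A] [DistribMulAction A V]

theorem smul_zmod (g : A) (k : ZMod p) (v : V) : g • (k • v) = k • (g • v) := by
  have h := ZMod.map_smul (DistribSMul.toAddMonoidHom V g) k v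
  exact h

/-- `z` acts as the transvection `v ↦ v + f(v) c`. -/
def IsTv (z : A) (f : V →ₗ[ZMod p] ZMod p) (c : V) : Prop :=
  (∀ v, z • v = v + f v • c) ∧ f c = 0

theorem IsTv.apply {z : A} {f : V →ₗ[ZMod p] ZMod p} {c : V} (h : IsTv z f c) (v : V) :
    z • v = v + f v • c := h.1 v

theorem IsTv.inv {z : A} {f : V →ₗ[ZMod p] ZMod p} {c : V} (h : IsTv z f c) :
    IsTv z⁻¹ (-f) c := by
  refine ⟨fun v => ?_, ?_⟩
  · rw [inv_smul_eq_iff, h.1]
    simp only [LinearMap.neg_apply, map_add, map_smul, h.2, neg_smul, map_neg, smul_eq_mul, mul_zero,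
      neg_zero, add_zero]
    abel
  · rw [LinearMap.neg_apply, h.2, neg_zero]

theorem IsTv.pow {z : A} {f : V →ₗ[ZMod p] ZMod p} {c : V} (h : IsTv z f c) (k : ℕ) :
    IsTv (z ^ k) ((k : ZMod p) • f) c := by
  induction k with
  | zero => exact ⟨fun v => by simp, by simp⟩
  | succ k ih =>
    refine ⟨fun v => ?_, ?_⟩
    · rw [pow_succ, mul_smul, h.1, ih.1]
      simp only [LinearMap.smul_apply, map_add, map_smul, h.2, smul_eq_mul, mul_zero, add_zero,
        Nat.cast_add, Nat.cast_one]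
      module
    · rw [LinearMap.smul_apply, h.2, smul_zero]

/-- The functional `v ↦ f (a⁻¹ v)`. -/
def tw (a : A) (f : V →ₗ[ZMod p] ZMod p) : V →ₗ[ZMod p] ZMod p where
  toFun v := f (a⁻¹ • v)
  map_add' x y := by rw [smul_add, map_add]
  map_smul' k x := by rw [smul_zmod, map_smul, RingHom.id_apply]

theorem tw_apply (a : A) (f : V →ₗ[ZMod p] ZMod p) (v : V) : tw a f v = f (a⁻¹ • v) := rfl

theorem IsTv.conj {z : A} {f : V →ₗ[ZMod p] ZMod p} {c : V} (h : IsTv z f c) (a : A) :
    IsTv (a * z * a⁻¹) (tw a f) (a • c) := by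
  refine ⟨fun v => ?_, ?_⟩
  · rw [mul_smul, mul_smul, h.1, smul_add, smul_inv_smul, smul_zmod, tw_apply]
  · rw [tw_apply, inv_smul_smul, h.2]

theorem IsTv.ne_zero {z : A} {f : V →ₗ[ZMod p] ZMod p} {c : V} (h : IsTv z f c) [FaithfulSMul A V]
    (hz : z ≠ 1) : f ≠ 0 ∧ c ≠ 0 := by
  constructor
  · rintro rfl
    apply hz
    apply FaithfulSMul.eq_of_smul_eq_smul (α := V)
    intro v
    rw [h.1, one_smul, LinearMap.zero_apply, zero_smul, add_zero]
  · rintro rfl
    apply hz
    apply FaithfulSMul.eq_of_smul_eq_smul (α := V)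
    intro v
    rw [h.1, one_smul, smul_zero, add_zero]

theorem IsTv.comm {z w : A} {f g : V →ₗ[ZMod p] ZMod p} {c d : V} (h : IsTv z f c) (h' : IsTv w g d)
    [FaithfulSMul A V] (h1 : f d = 0) (h2 : g c = 0) : z * w = w * z := by
  apply FaithfulSMul.eq_of_smul_eq_smul (α := V)
  intro v
  rw [mul_smul, mul_smul, h.1, h'.1, h'.1, h.1]
  simp only [map_add, map_smul, h1, h2, smul_zero, add_zero]
  abel

/-- The property of a strongly embedded subgroup that we use. -/
def TI (p : ℕ) (B : Subgroup A) : Prop :=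
  ∀ q ∈ B, q ≠ 1 → (∃ k, q ^ p ^ k = 1) → ∀ g : A, g⁻¹ * q * g ∈ B → g ∈ B

theorem TI.comm {B : Subgroup A} (hB : TI p B) {q g : A} (hq : q ∈ B) (hq1 : q ≠ 1)
    (hqp : ∃ k, q ^ p ^ k = 1) (hg : q * g = g * q) : g ∈ B := by
  apply hB q hq hq1 hqp g
  have : g⁻¹ * q * g = q := by rw [mul_assoc, hg, inv_mul_cancel_left]
  rwa [this]

theorem TI.conj {B : Subgroup A} (hB : TI p B) (a : A) :
    TI p (B.map (MulAut.conj a).toMonoidHom) := by
  have hmem : ∀ x, x ∈ B.map (MulAut.conj a).toMonoidHom ↔ a⁻¹ * x * a ∈ B := by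
    intro x
    constructor
    · rintro ⟨y, hy, rfl⟩
      have e : a⁻¹ * (a * y * a⁻¹) * a = y := by group
      show a⁻¹ * (a * y * a⁻¹) * a ∈ B
      rwa [e]
    · intro h
      refine ⟨a⁻¹ * x * a, h, ?_⟩
      show a * (a⁻¹ * x * a) * a⁻¹ = x
      group
  intro q hq hq1 hqp g hg
  rw [hmem] at hq hg ⊢
  refine hB _ hq ?_ ?_ (a⁻¹ * g * a) ?_
  · intro h
    apply hq1
    have : q = a * (a⁻¹ * q * a) * a⁻¹ := by group
    rw [this, h]
    group
  · obtain ⟨k, hk⟩ := hqp
    refine ⟨k, ?_⟩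
    have e : a⁻¹ * q * a = MulAut.conj a⁻¹ q := by simp [MulAut.conj_apply]
    rw [e, ← map_pow, hk, map_one]
  · have e : (a⁻¹ * g * a)⁻¹ * (a⁻¹ * q * a) * (a⁻¹ * g * a) = a⁻¹ * (g⁻¹ * q * g) * a := by group
    rwa [e]

theorem IsTv.pow_p {z : A} {f : V →ₗ[ZMod p] ZMod p} {c : V} (h : IsTv z f c) [FaithfulSMul A V] :
    z ^ p = 1 := by
  apply FaithfulSMul.eq_of_smul_eq_smul (α := V)
  intro v
  rw [(h.pow p).1, one_smul]
  simp

theorem IsTv.isP {z : A} {f : V →ₗ[ZMod p] ZMod p} {c : V} (h : IsTv z f c) [FaithfulSMul A V] :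
    ∃ k, z ^ p ^ k = 1 := ⟨1, by rw [pow_one, h.pow_p]⟩

/-- Two transvections, one of them in `B`, one of them centralizing the centre or normalizing the axis
of the other. -/
theorem tv_mem [FaithfulSMul A V] {B : Subgroup A} (hB : TI p B) {z w : A} {f g : V →ₗ[ZMod p] ZMod p}
    {c d : V} (hz : IsTv z f c) (hw : IsTv w g d) (hzB : z ∈ B) (hz1 : z ≠ 1) (hw1 : w ≠ 1)
    (h : f d = 0 ∨ g c = 0) : w ∈ B := by
  obtain ⟨hf0, hc0⟩ := hz.ne_zero hz1
  obtain ⟨hg0, hd0⟩ := hw.ne_zero hw1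
  by_cases hfd : f d = 0
  · by_cases hgc : g c = 0
    · exact hB.comm hzB hz1 hz.isP (hz.comm hw hfd hgc)
    · -- r = [z, w] : v ↦ v - f(v) g(c) d
      have hr : IsTv (z * w * z⁻¹ * w⁻¹) f (-(g c) • d) := by
        refine ⟨fun v => ?_, ?_⟩
        · have e1 : z * w * z⁻¹ * w⁻¹ = (z * w) * (w * z)⁻¹ := by group
          obtain ⟨u, rfl⟩ : ∃ u, v = (w * z) • u := ⟨(w * z)⁻¹ • v, by rw [smul_inv_smul]⟩
          rw [e1, mul_smul, inv_smul_smul, mul_smul, mul_smul, hz.1, hw.1, hw.1, hz.1]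
          simp only [map_add, map_smul, hfd, hz.2, smul_zero, add_zero, smul_eq_mul]
          module
        · rw [map_smul, hfd, smul_zero]
      have hr1 : z * w * z⁻¹ * w⁻¹ ≠ 1 := by
        intro h1
        apply hf0
        ext v
        have h2 := hr.1 v
        rw [h1, one_smul] at h2
        have h3 : f v • (-(g c) • d) = 0 := by
          have := sub_eq_zero_of_eq h2.symm
          rwa [add_sub_cancel_left] at this
        rw [smul_smul, smul_eq_zero] at h3
        rcases h3 with h3 | h3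
        · rcases mul_eq_zero.1 h3 with h4 | h4
          · exact h4
          · exact absurd (neg_eq_zero.1 h4) hgc
        · exact absurd h3 hd0
      have hrB : z * w * z⁻¹ * w⁻¹ ∈ B := by
        apply hB.comm hzB hz1 hz.isP
        apply hz.comm hr _ hz.2
        rw [map_smul, hfd, smul_zero]
      apply hB.comm hrB hr1 hr.isP
      apply hr.comm hw hfd
      rw [map_smul, hw.2, smul_zero]
  · have hgc : g c = 0 := h.resolve_left hfd
    have hr : IsTv (z * w * z⁻¹ * w⁻¹) g (f d • c) := by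
      refine ⟨fun v => ?_, ?_⟩
      · have e1 : z * w * z⁻¹ * w⁻¹ = (z * w) * (w * z)⁻¹ := by group
        obtain ⟨u, rfl⟩ : ∃ u, v = (w * z) • u := ⟨(w * z)⁻¹ • v, by rw [smul_inv_smul]⟩
        rw [e1, mul_smul, inv_smul_smul, mul_smul, mul_smul, hz.1, hw.1, hw.1, hz.1]
        simp only [map_add, map_smul, hgc, hw.2, smul_zero, add_zero, smul_eq_mul]
        module
      · rw [map_smul, hgc, smul_zero]
    have hr1 : z * w * z⁻¹ * w⁻¹ ≠ 1 := by
      intro h1
      apply hg0
      ext v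
      have h2 := hr.1 v
      rw [h1, one_smul] at h2
      have h3 : g v • (f d • c) = 0 := by
        have := sub_eq_zero_of_eq h2.symm
        rwa [add_sub_cancel_left] at this
      rw [smul_smul, smul_eq_zero] at h3
      rcases h3 with h3 | h3
      · rcases mul_eq_zero.1 h3 with h4 | h4
        · exact h4
        · exact absurd h4 hfd
      · exact absurd h3 hc0
    have hrB : z * w * z⁻¹ * w⁻¹ ∈ B := by
      apply hB.comm hzB hz1 hz.isP
      apply hz.comm hr _ hgc
      rw [map_smul, hz.2, smul_zero]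
    apply hB.comm hrB hr1 hr.isP
    apply hr.comm hw hw.2
    rw [map_smul, hgc, smul_zero]

/-- A conjugate of `z` in general position. -/
theorem general_position [FaithfulSMul A V] {B : Subgroup A} (hB : TI p B) {z : A}
    {f : V →ₗ[ZMod p] ZMod p} {c : V} (hz : IsTv z f c) (hzB : z ∈ B) (hz1 : z ≠ 1) {a : A}
    (ha : a ∉ B) : f (a • c) ≠ 0 ∧ f (a⁻¹ • c) ≠ 0 := by
  have hn1 : a * z * a⁻¹ ≠ 1 := by
    intro h
    apply hz1
    have : z = a⁻¹ * (a * z * a⁻¹) * a := by group
    rw [this, h]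
    group
  have hnB : a * z * a⁻¹ ∉ B := by
    intro h
    apply ha
    apply hB _ h hn1 (hz.conj a).isP a
    have : a⁻¹ * (a * z * a⁻¹) * a = z := by group
    rwa [this]
  constructor
  · intro h
    exact hnB (tv_mem hB hz (hz.conj a) hzB hz1 hn1 (Or.inl h))
  · intro h
    exact hnB (tv_mem hB hz (hz.conj a) hzB hz1 hn1 (Or.inr h))

theorem exists_coeff {a b : ZMod p} (hb : b ≠ 0) : ∃ k : ℕ, a + (k : ZMod p) * b = 0 := by
  refine ⟨(-a * b⁻¹).val, ?_⟩
  rw [ZMod.natCast_zmod_val]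
  field_simp
  ring

/-- **The centralizer of a transvection**: the only `p`-elements commuting with `z` are its powers. -/
theorem pElement_mem_zpowers [FaithfulSMul A V] {B : Subgroup A} (hB : TI p B) (hBt : B ≠ ⊤) {z : A}
    {f : V →ₗ[ZMod p] ZMod p} {c : V} (hz : IsTv z f c) (hzB : z ∈ B) (hz1 : z ≠ 1) {x : A}
    (hx : ∃ k, x ^ p ^ k = 1) (hxz : z * x = x * z) : x ∈ Subgroup.zpowers z := by
  obtain ⟨a, ha⟩ : ∃ a, a ∉ B := by
    by_contra hcon
    push Not at hcon
    exact hBt (eq_top_iff.2 fun a _ => hcon a)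
  obtain ⟨h1, h2⟩ := general_position hB hz hzB hz1 ha
  obtain ⟨hf0, hc0⟩ := hz.ne_zero hz1
  have hxB : x ∈ B := hB.comm hzB hz1 hz.isP hxz
  set f' := tw a f with hf'
  set c' := a • c with hc'
  have hz' : IsTv (a * z * a⁻¹) f' c' := hz.conj a
  have hf'c : f' c ≠ 0 := h2
  -- k
  obtain ⟨k, hk⟩ := exists_coeff (a := f' (x • c')) (b := f (x • c') * f' c) (by
    -- f (x • c') ≠ 0: x fixes the axis up to scalar
    apply mul_ne_zero _ hf'c
    intro h
    -- f (x c') = 0; z x c' = x c' ; so x z c' = x c', z c' = c', f c' = 0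
    have e1 : z • (x • c') = x • c' := by rw [hz.1, h, zero_smul, add_zero]
    rw [← mul_smul, hxz, mul_smul] at e1
    have e2 : z • c' = c' := smul_left_cancel x e1
    rw [hz.1] at e2
    have e3 : f c' • c = 0 := by
      have := sub_eq_zero_of_eq e2
      rwa [add_sub_cancel_left] at this
    rcases smul_eq_zero.1 e3 with e4 | e4
    · exact h1 e4
    · exact hc0 e4)
  set x1 := z ^ k * x with hx1
  have hx1f : f' (x1 • c') = 0 := by
    rw [hx1, mul_smul, (hz.pow k).1, LinearMap.smul_apply, LinearMap.map_add, LinearMap.map_smul]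
    rw [smul_eq_mul, smul_eq_mul, ← hk]
    ring
  have hx1B : x1 ∈ B := B.mul_mem (B.pow_mem hzB k) hxB
  -- x1 is a p-element
  have hx1p : ∃ j, x1 ^ p ^ j = 1 := by
    obtain ⟨j, hj⟩ := hx
    refine ⟨j + 1, ?_⟩
    have hcomm : Commute (z ^ k) x := (Commute.pow_left (show Commute z x from hxz) k)
    have e : (z ^ k) ^ p ^ (j + 1) = (z ^ p) ^ (k * p ^ j) := by
      rw [← pow_mul, ← pow_mul]
      congr 1
      ring
    rw [hx1, hcomm.mul_pow, e, hz.pow_p, one_pow, one_mul, pow_succ, pow_mul, hj, one_pow]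
  have hBa := hB.conj a
  have hmem : ∀ x, x ∈ B.map (MulAut.conj a).toMonoidHom ↔ a⁻¹ * x * a ∈ B := by
    intro x
    constructor
    · rintro ⟨y, hy, rfl⟩
      have e : a⁻¹ * (a * y * a⁻¹) * a = y := by group
      show a⁻¹ * (a * y * a⁻¹) * a ∈ B
      rwa [e]
    · intro h
      refine ⟨a⁻¹ * x * a, h, ?_⟩
      show a * (a⁻¹ * x * a) * a⁻¹ = x
      group
  have hz'B : a * z * a⁻¹ ∈ B.map (MulAut.conj a).toMonoidHom := by
    rw [hmem]
    have : a⁻¹ * (a * z * a⁻¹) * a = z := by group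
    rwa [this]
  have hz'1 : a * z * a⁻¹ ≠ 1 := by
    intro h
    apply hz1
    have : z = a⁻¹ * (a * z * a⁻¹) * a := by group
    rw [this, h]
    group
  have hz''1 : x1 * (a * z * a⁻¹) * x1⁻¹ ≠ 1 := by
    intro h
    apply hz'1
    have : a * z * a⁻¹ = x1⁻¹ * (x1 * (a * z * a⁻¹) * x1⁻¹) * x1 := by group
    rw [this, h]
    group
  have h3 : x1 * (a * z * a⁻¹) * x1⁻¹ ∈ B.map (MulAut.conj a).toMonoidHom :=
    tv_mem hBa hz' (hz'.conj x1) hz'B hz'1 hz''1 (Or.inl hx1f)
  have h4 : x1 ∈ B.map (MulAut.conj a).toMonoidHom := by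
    apply hBa _ h3 hz''1 (hz'.conj x1).isP x1
    have : x1⁻¹ * (x1 * (a * z * a⁻¹) * x1⁻¹) * x1 = a * z * a⁻¹ := by group
    rwa [this]
  rw [hmem] at h4
  have h5 : x1 = 1 := by
    by_contra hne
    exact ha (hB x1 hx1B hne hx1p a h4)
  have h6 : x = (z ^ k)⁻¹ := eq_inv_of_mul_eq_one_right h5
  rw [h6]
  exact Subgroup.inv_mem _ (Subgroup.pow_mem _ (Subgroup.mem_zpowers z) k)

/-- **The involution** commuting with `z`. -/
theorem exists_involution [FaithfulSMul A V] {B : Subgroup A} (hB : TI p B) (hBt : B ≠ ⊤) {z : A}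
    {f : V →ₗ[ZMod p] ZMod p} {c : V} (hz : IsTv z f c) (hzB : z ∈ B) (hz1 : z ≠ 1) :
    ∃ t : A, t * t = 1 ∧ t * z = z * t ∧ t • c = -c ∧ (∀ v, f (t • v) = - f v) ∧
      ∀ v, f v = 0 → ∃ k : ZMod p, t • v = v + k • c := by
  obtain ⟨a, ha⟩ : ∃ a, a ∉ B := by
    by_contra hcon
    push Not at hcon
    exact hBt (eq_top_iff.2 fun a _ => hcon a)
  obtain ⟨h1, h2⟩ := general_position hB hz hzB hz1 ha
  set c' := a • c with hc'
  have hz' : IsTv (a * z * a⁻¹) (tw a f) c' := hz.conj a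
  have hf'c : tw a f c ≠ 0 := h2
  obtain ⟨j, hj⟩ := exists_coeff (a := (1 : ZMod p)) (b := tw a f c * f c') (mul_ne_zero hf'c h1)
  set g : V →ₗ[ZMod p] ZMod p := (j : ZMod p) • tw a f with hg
  set y := (a * z * a⁻¹) ^ j with hy
  have hyt : IsTv y g c' := hz'.pow j
  have hgc : g c * f c' = -1 := by
    rw [hg, LinearMap.smul_apply, smul_eq_mul]
    linear_combination hj
  have hgc' : g c' = 0 := hyt.2
  clear_value c' g y
  have hfc : f c = 0 := hz.2
  -- t = (z y z)^2
  have hw : ∀ v, (z * y * z) • v = v + (f c' * g v + f v * (1 + f c' * g c) + f v) • c +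
      (g v + f v * g c) • c' := by
    intro v
    rw [mul_smul, mul_smul, hz.1, hyt.1, hz.1]
    simp only [map_add, map_smul, hfc, smul_eq_mul]
    module
  have hw' : ∀ v, (z * y * z) • v = v + (f c' * g v + f v) • c + (g v + f v * g c) • c' := by
    intro v
    rw [hw, mul_comm (f c') (g c), hgc]
    module
  have ht : ∀ v, ((z * y * z) * (z * y * z)) • v =
      v + (2 * (f c' * g v)) • c + (2 * (g c * f v)) • c' := by
    intro v
    rw [mul_smul, hw', hw' v]
    simp only [map_add, map_smul, hfc, hgc', smul_eq_mul, mul_zero, add_zero]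
    have e3 : f c' * (g v + (f c' * g v + f v) * g c) + (f v + (g v + f v * g c) * f c') =
        f c' * g v - f v := by
      linear_combination (f c' * g v + 2 * f v) * hgc
    have e4 : g v + (f c' * g v + f v) * g c + (f v + (g v + f v * g c) * f c') * g c =
        f v * g c - g v := by
      linear_combination (2 * g v + f v * g c) * hgc
    rw [e3, e4]
    module
  have hfs : ∀ v, f (((z * y * z) * (z * y * z)) • v) = - f v := by
    intro v
    rw [ht]
    simp only [map_add, map_smul, hfc, smul_eq_mul, mul_zero, add_zero]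
    linear_combination (2 * f v) * hgc
  have hgs : ∀ v, g (((z * y * z) * (z * y * z)) • v) = - g v := by
    intro v
    rw [ht]
    simp only [map_add, map_smul, hgc', smul_eq_mul, mul_zero, add_zero]
    linear_combination (2 * g v) * hgc
  refine ⟨(z * y * z) * (z * y * z), ?_, ?_, ?_, hfs, ?_⟩
  · apply FaithfulSMul.eq_of_smul_eq_smul (α := V)
    intro v
    rw [mul_smul, ht (_ • v), hfs, hgs, ht v, one_smul]
    module
  · apply FaithfulSMul.eq_of_smul_eq_smul (α := V)
    intro v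
    rw [mul_smul _ z v, mul_smul z _ v, hz.1 (((z * y * z) * (z * y * z)) • v), hfs, ht v, ht (z • v),
      hz.1]
    simp only [map_add, map_smul, hfc, smul_eq_mul]
    have e5 : f c' * (g v + f v * g c) = f c' * g v - f v := by linear_combination (f v) * hgc
    rw [e5]
    module
  · rw [ht, hfc]
    have e6 : 2 * (f c' * g c) = -2 := by linear_combination 2 * hgc
    rw [e6]
    module
  · intro v hv
    refine ⟨2 * (f c' * g v), ?_⟩
    rw [ht, hv]
    module

end Cfsg.Agent.H797.StrongTv
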