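import Cfsg.Agent.H797.StrongTv

/-!
# Multiplicative version of the transvection lemmas
-/

set_option autoImplicit false
set_option linter.unusedSectionVars false

namespace Cfsg.Agent.H797.StrongTv

open Subgroup

/-- An additive map of an elementary abelian group with kernel of index `p` and with `φ ∘ φ = 0` is
`v ↦ f(v) c`. -/
theorem exists_tv {p : ℕ} [hp : Fact p.Prime] {V : Type*} [AddCommGroup V] [Module (ZMod p) V]
    {A : Type*} [Group A] [DistribMulAction A V] {z : A} (v₀ : V) (hv₀ : z • v₀ ≠ v₀)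
    (hgen : ∀ v : V, ∃ k : ZMod p, z • (v - k • v₀) = v - k • v₀)
    (hz2 : ∀ v : V, z • (z • v - v) = z • v - v) :
    ∃ f : V →ₗ[ZMod p] ZMod p, IsTv z f (z • v₀ - v₀) := by
  have hk : ∀ v, ∃ k : ZMod p, z • v = v + k • (z • v₀ - v₀) := by
    intro v
    obtain ⟨k, hk⟩ := hgen v
    refine ⟨k, ?_⟩
    have e : v = (v - k • v₀) + k • v₀ := by abel
    have e2 : z • v = z • (v - k • v₀) + k • (z • v₀) := by
      conv_lhs => rw [e]
      rw [smul_add, smul_zmod]
    rw [e2, hk, smul_sub]
    abel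
  set c := z • v₀ - v₀ with hc
  have hc0 : c ≠ 0 := sub_ne_zero.2 hv₀
  choose f hf using hk
  have huniq : ∀ (a b : ZMod p), a • c = b • c → a = b := by
    intro a b hab
    have h1 : (a - b) • c = 0 := by rw [sub_smul, hab, sub_self]
    rcases smul_eq_zero.1 h1 with h2 | h2
    · exact sub_eq_zero.1 h2
    · exact absurd h2 hc0
  let F : V →ₗ[ZMod p] ZMod p :=
    { toFun := f
      map_add' := by
        intro x y
        apply huniq
        have h1 := hf (x + y)
        rw [smul_add, hf x, hf y] at h1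
        have h2 : f (x + y) • c = f x • c + f y • c := by
          have : x + y + f (x + y) • c = x + y + (f x • c + f y • c) := by
            rw [← h1]; abel
          exact add_left_cancel this
        rw [h2, add_smul]
      map_smul' := by
        intro k x
        apply huniq
        have h1 := hf (k • x)
        rw [smul_zmod, hf x, smul_add] at h1
        have h2 := add_left_cancel h1
        rw [← h2, RingHom.id_apply, smul_eq_mul, mul_smul] }
  refine ⟨F, fun v => hf v, ?_⟩
  show f c = 0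
  apply huniq
  have h1 := hz2 v₀
  rw [← hc, hf c] at h1
  rw [zero_smul]
  have : c + f c • c = c + 0 := by rw [h1, add_zero]
  exact add_left_cancel this

/-- Additive form of the two lemmas. -/
theorem add_form' {p : ℕ} [hp : Fact p.Prime] {V : Type*} [AddCommGroup V] [Module (ZMod p) V]
    {A : Type*} [Group A] [DistribMulAction A V] [FaithfulSMul A V] {B : Subgroup A} (hB : TI p B)
    (hBt : B ≠ ⊤) {z : A} (hzB : z ∈ B) (v₀ : V) (hv₀ : z • v₀ ≠ v₀)
    (hgen : ∀ v : V, ∃ k : ℕ, z • (v - k • v₀) = v - k • v₀)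
    (hz2 : ∀ v : V, z • (z • v - v) = z • v - v) :
    (∀ x : A, (∃ k, x ^ p ^ k = 1) → z * x = x * z → x ∈ Subgroup.zpowers z) ∧
    ∃ t : A, t * t = 1 ∧ t * z = z * t ∧
      (∀ v : V, t • (z • v - v) = -(z • v - v)) ∧
      (∀ v : V, z • (t • v + v) = t • v + v) ∧
      (∀ v : V, z • v = v → ∃ k : ℕ, t • v = v + k • (z • v₀ - v₀)) := by
  have hsm : ∀ (k : ZMod p) (v : V), k • v = k.val • v := by
    intro k v
    have h1 : (k.val : ZMod p) • v = k.val • v := Nat.cast_smul_eq_nsmul _ _ _
    rwa [ZMod.natCast_zmod_val] at h1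
  have hsn : ∀ (k : ℕ) (v : V), (k : ZMod p) • v = k • v := by
    intro k v
    rw [Nat.cast_smul_eq_nsmul]
  obtain ⟨f, hf⟩ := exists_tv (p := p) (z := z) v₀ hv₀ (by
      intro v
      obtain ⟨k, hk⟩ := hgen v
      refine ⟨(k : ZMod p), ?_⟩
      rw [hsn]
      exact hk) hz2
  have hz1 : z ≠ 1 := by
    rintro rfl
    exact hv₀ (one_smul _ _)
  refine ⟨fun x hx hxz => pElement_mem_zpowers hB hBt hf hzB hz1 hx hxz, ?_⟩
  obtain ⟨t, ht1, ht2, ht3, ht4, ht5⟩ := exists_involution hB hBt hf hzB hz1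
  refine ⟨t, ht1, ht2, ?_, ?_, ?_⟩
  · intro v
    rw [hf.1 v, add_sub_cancel_left, smul_zmod, ht3, smul_neg]
  · intro v
    rw [hf.1, map_add, ht4, neg_add_cancel, zero_smul, add_zero]
  · intro v hv
    have h1 : f v = 0 := by
      have h2 := hf.1 v
      rw [hv] at h2
      have h3 : f v • (z • v₀ - v₀) = 0 := by
        have : v + 0 = v + f v • (z • v₀ - v₀) := by
          rw [add_zero]; exact h2
        exact (add_left_cancel this).symm
      rcases smul_eq_zero.1 h3 with h4 | h4
      · exact h4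
      · exact absurd (sub_eq_zero.1 h4) hv₀
    obtain ⟨k, hk⟩ := ht5 _ h1
    exact ⟨k.val, by rw [hk, hsm]⟩

/-- Additive form of the two lemmas. -/
theorem add_form {p : ℕ} [hp : Fact p.Prime] {V : Type*} [AddCommGroup V] (hexp : ∀ v : V, p • v = 0)
    {A : Type*} [Group A] [DistribMulAction A V] [FaithfulSMul A V] {B : Subgroup A} (hB : TI p B)
    (hBt : B ≠ ⊤) {z : A} (hzB : z ∈ B) (v₀ : V) (hv₀ : z • v₀ ≠ v₀)
    (hgen : ∀ v : V, ∃ k : ℕ, z • (v - k • v₀) = v - k • v₀)
    (hz2 : ∀ v : V, z • (z • v - v) = z • v - v) :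
    (∀ x : A, (∃ k, x ^ p ^ k = 1) → z * x = x * z → x ∈ Subgroup.zpowers z) ∧
    ∃ t : A, t * t = 1 ∧ t * z = z * t ∧
      (∀ v : V, t • (z • v - v) = -(z • v - v)) ∧
      (∀ v : V, z • (t • v + v) = t • v + v) ∧
      (∀ v : V, z • v = v → ∃ k : ℕ, t • v = v + k • (z • v₀ - v₀)) := by
  let _ : Module (ZMod p) V := AddCommGroup.zmodModule hexp
  exact add_form' hB hBt hzB v₀ hv₀ hgen hz2

section

variable {p : ℕ} [hp : Fact p.Prime] {V : Type*} [CommGroup V]

/-- The action of `A ≤ Aut(V)` on `Additive V`. -/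
@[reducible] def actInst (A : Subgroup (MulAut V)) : DistribMulAction A (Additive V) where
  smul a v := Additive.ofMul ((a : MulAut V) (Additive.toMul v))
  one_smul v := rfl
  mul_smul a b v := rfl
  smul_zero a := by
    show Additive.ofMul ((a : MulAut V) 1) = 0
    rw [map_one]; rfl
  smul_add a v w := by
    show Additive.ofMul ((a : MulAut V) (Additive.toMul v * Additive.toMul w)) = _
    rw [map_mul]; rfl

theorem actInst_smul (A : Subgroup (MulAut V)) (a : A) (v : V) :
    letI := actInst A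
    a • Additive.ofMul v = Additive.ofMul ((a : MulAut V) v) := rfl

theorem actInst_faithful (A : Subgroup (MulAut V)) :
    letI := actInst A
    FaithfulSMul A (Additive V) := by
  letI := actInst A
  refine ⟨fun {a b} h => ?_⟩
  apply Subtype.ext
  apply MulEquiv.ext
  intro v
  have := h (Additive.ofMul v)
  rw [actInst_smul, actInst_smul] at this
  exact Additive.ofMul.injective this

/-- Multiplicative form of the two lemmas. -/
theorem mul_form (hexp : ∀ v : V, v ^ p = 1) (A : Subgroup (MulAut V)) {B : Subgroup A} (hB : TI p B)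
    (hBt : B ≠ ⊤) {z : A} (hzB : z ∈ B) (v₀ : V) (hv₀ : (z : MulAut V) v₀ ≠ v₀)
    (hgen : ∀ v : V, ∃ k : ℕ, (z : MulAut V) (v / v₀ ^ k) = v / v₀ ^ k)
    (hz2 : ∀ v : V, (z : MulAut V) ((z : MulAut V) v / v) = (z : MulAut V) v / v) :
    (∀ x : A, (∃ k, x ^ p ^ k = 1) → z * x = x * z → x ∈ Subgroup.zpowers z) ∧
    ∃ t : A, t * t = 1 ∧ t * z = z * t ∧
      (∀ v : V, (t : MulAut V) ((z : MulAut V) v / v) = ((z : MulAut V) v / v)⁻¹) ∧
      (∀ v : V, (z : MulAut V) ((t : MulAut V) v * v) = (t : MulAut V) v * v) ∧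
      (∀ v : V, (z : MulAut V) v = v → ∃ k : ℕ, (t : MulAut V) v = v * ((z : MulAut V) v₀ / v₀) ^ k) := by
  let _ := actInst A
  have _ := actInst_faithful A
  obtain ⟨h1, t, h2, h3, h4, h5, h6⟩ := add_form (p := p) (V := Additive V) (A := A)
    (fun v => congrArg Additive.ofMul (hexp (Additive.toMul v))) hB hBt hzB (Additive.ofMul v₀)
    (fun h => hv₀ (Additive.ofMul.injective h))
    (fun v => by
      obtain ⟨k, hk⟩ := hgen (Additive.toMul v)
      exact ⟨k, congrArg Additive.ofMul hk⟩)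
    (fun v => congrArg Additive.ofMul (hz2 (Additive.toMul v)))
  refine ⟨h1, t, h2, h3, fun v => ?_, fun v => ?_, fun v hv => ?_⟩
  · exact Additive.ofMul.injective (h4 (Additive.ofMul v))
  · exact Additive.ofMul.injective (h5 (Additive.ofMul v))
  · obtain ⟨k, hk⟩ := h6 (Additive.ofMul v) (congrArg Additive.ofMul hv)
    exact ⟨k, Additive.ofMul.injective hk⟩

end

end Cfsg.Agent.H797.StrongTv
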